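import Mathlib.RingTheory.Noetherian.Basic
import Mathlib.Algebra.Module.LocalizedModule.Basic
import Mathlib.RingTheory.Ideal.MinimalPrime.Localization
import Mathlib.RingTheory.Ideal.Maximal
import Mathlib.RingTheory.Ideal.Operations

/-!
# Modifications of a module along components of a principal special fibre
-/

set_option autoImplicit false

universe u

namespace Groth.Agent.Lib.ModifDec

variable {A : Type u} [CommRing A] {ι : Type} (π : A) (𝔓 : ι → Ideal A) [∀ i, (𝔓 i).IsPrime]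
variable {M : Type u} [AddCommGroup M] [Module A M]

/-- `x` lies in `πM` at `i`. -/
def At (i : ι) (x : M) : Prop := ∃ s ∉ 𝔓 i, ∃ y : M, s • x = π • y

variable {π 𝔓}

theorem mem_span_smul_top {x : M} :
    x ∈ Ideal.span {π} • (⊤ : Submodule A M) ↔ ∃ y : M, x = π • y := by
  rw [Submodule.ideal_span_singleton_smul, Submodule.mem_smul_pointwise_iff_exists]
  constructor
  · rintro ⟨y, -, rfl⟩; exact ⟨y, rfl⟩
  · rintro ⟨y, rfl⟩; exact ⟨y, trivial, rfl⟩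

theorem mk_mem_ker_iff (i : ι) (x : M) :
    (Ideal.span {π} • (⊤ : Submodule A M)).mkQ x ∈ LinearMap.ker (LocalizedModule.mkLinearMap
        (𝔓 i).primeCompl (M ⧸ Ideal.span {π} • (⊤ : Submodule A M))) ↔ At π 𝔓 i x := by
  rw [LinearMap.mem_ker, IsLocalizedModule.eq_zero_iff (𝔓 i).primeCompl]
  constructor
  · rintro ⟨s, hs⟩
    have h' : ((s : A) • x : M) ∈ Ideal.span {π} • (⊤ : Submodule A M) := by
      rw [← Submodule.Quotient.mk_eq_zero, Submodule.Quotient.mk_smul]; exact hs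
    exact ⟨s, s.2, mem_span_smul_top.1 h'⟩
  · rintro ⟨s, hs, hy⟩
    refine ⟨⟨s, hs⟩, ?_⟩
    change s • (Submodule.Quotient.mk x : M ⧸ Ideal.span {π} • (⊤ : Submodule A M)) = 0
    rw [← Submodule.Quotient.mk_smul, Submodule.Quotient.mk_eq_zero]
    exact mem_span_smul_top.2 hy

theorem At.add {i : ι} {x y : M} (hx : At π 𝔓 i x) (hy : At π 𝔓 i y) : At π 𝔓 i (x + y) := by
  obtain ⟨s, hs, a, ha⟩ := hx
  obtain ⟨t, ht, b, hb⟩ := hy
  refine ⟨s * t, fun h => (‹∀ i, (𝔓 i).IsPrime› i).mem_or_mem h |>.elim hs ht, t • a + s • b, ?_⟩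
  rw [smul_add, mul_comm s t, mul_smul, ha, mul_comm t s, mul_smul, hb, smul_add, smul_comm t π,
    smul_comm s π]

theorem at_smul (i : ι) (y : M) : At π 𝔓 i (π • y) :=
  ⟨1, fun h => (‹∀ i, (𝔓 i).IsPrime› i).ne_top ((Ideal.eq_top_iff_one _).2 h), y, one_smul _ _⟩

theorem At.neg {i : ι} {x : M} (hx : At π 𝔓 i x) : At π 𝔓 i (-x) := by
  obtain ⟨s, hs, a, ha⟩ := hx
  exact ⟨s, hs, -a, by rw [smul_neg, ha, smul_neg]⟩

theorem At.sub {i : ι} {x y : M} (hx : At π 𝔓 i x) (hy : At π 𝔓 i y) : At π 𝔓 i (x - y) :=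
  sub_eq_add_neg x y ▸ hx.add hy.neg

theorem exists_pow_mul_mem {I p : Ideal A} (hp : p ∈ I.minimalPrimes) {s : A} (hs : s ∈ p) :
    ∃ t ∉ p, ∃ N : ℕ, t * s ^ N ∈ I := by
  haveI := hp.1.1
  let S : Submonoid A := p.primeCompl ⊔ Submonoid.powers s
  by_contra h
  push Not at h
  have hd : Disjoint (I : Set A) (S : Set A) := by
    rw [Set.disjoint_left]
    intro x hxI hxS
    obtain ⟨t, ht, w, ⟨N, rfl⟩, rfl⟩ := Submonoid.mem_sup.1 hxS
    exact h t ht N hxI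
  obtain ⟨q, hq, hIq, hqS⟩ := Ideal.exists_le_prime_disjoint I S hd
  have hqp : q ≤ p := fun x hx => by
    by_contra hxp
    exact Set.disjoint_left.1 hqS hx ((le_sup_left : p.primeCompl ≤ S) hxp)
  have hpq : p ≤ q := hp.2 ⟨hq, hIq⟩ hqp
  exact Set.disjoint_left.1 hqS (hpq hs) ((le_sup_right : Submonoid.powers s ≤ S) (Submonoid.mem_powers s))

variable [Finite ι]

theorem exists_sep (h𝔓 : ∀ i, 𝔓 i ∈ (Ideal.span {π}).minimalPrimes) (h𝔓inj : Function.Injective 𝔓)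
    {Y : Set ι} {i : ι} (hi : i ∉ Y) :
    ∃ s ∉ 𝔓 i, ∀ j ∈ Y, ∀ x : M, At π 𝔓 j (s • x) := by
  classical
  have := Fintype.ofFinite ι
  have key : ∀ j ∈ Y, ∃ s ∉ 𝔓 i, ∀ x : M, At π 𝔓 j (s • x) := by
    intro j hj
    have hne : ¬ 𝔓 j ≤ 𝔓 i := fun hle =>
      hi ((h𝔓inj (le_antisymm hle ((h𝔓 i).2 (h𝔓 j).1 hle))) ▸ hj)
    obtain ⟨s, hsj, hsi⟩ := SetLike.not_le_iff_exists.1 hne
    obtain ⟨t, ht, N, hN⟩ := exists_pow_mul_mem (h𝔓 j) hsj
    refine ⟨s ^ N, fun h => hsi ((‹∀ i, (𝔓 i).IsPrime› i).mem_of_pow_mem N h), fun x => ?_⟩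
    obtain ⟨c, hc⟩ := Ideal.mem_span_singleton'.1 hN
    exact ⟨t, ht, c • x, by rw [smul_smul, ← hc, mul_comm c π, mul_smul]⟩
  choose s hs hs' using key
  refine ⟨∏ j : Y, s j.1 j.2, fun h => ?_, fun j hj x => ?_⟩
  · obtain ⟨j, -, hj⟩ := (‹∀ i, (𝔓 i).IsPrime› i).prod_mem_iff.1 h
    exact hs j.1 j.2 hj
  · rw [← Finset.mul_prod_erase Finset.univ (fun j : Y => s j.1 j.2) (Finset.mem_univ ⟨j, hj⟩), mul_smul]
    exact hs' j hj _

end Groth.Agent.Lib.ModifDec
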